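import Mathlib.RingTheory.Flat.Basic
import Mathlib.RingTheory.Ideal.Pure
import Mathlib.RingTheory.TensorProduct.Maps
import Mathlib.RingTheory.RingHom.Flat

/-!
# Modules flat over the base are flat over an algebra with flat multiplication map

If `B ⊗[A] B → B` is flat, then every `B`-module which is flat over `A` is flat over `B`.
-/

universe u

open TensorProduct

namespace GrothLib.Diag6

variable {A B : Type u} [CommRing A] [CommRing B] [Algebra A B]

/-- The kernel of a flat multiplication map is pure. -/
theorem pure_ker_lmul' (h : (Algebra.TensorProduct.lmul' A (S := B)).toRingHom.Flat) :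
    (RingHom.ker (Algebra.TensorProduct.lmul' A (S := B)).toRingHom).Pure := by
  let l := (Algebra.TensorProduct.lmul' A (S := B)).toRingHom
  have hl : Function.Surjective l := fun x => ⟨x ⊗ₜ 1, by simp [l]⟩
  have h1 : ((RingHom.quotientKerEquivOfSurjective hl).symm.toRingHom.comp l).Flat :=
    h.comp (.of_bijective (RingEquiv.bijective _))
  have h2 : (RingHom.quotientKerEquivOfSurjective hl).symm.toRingHom.comp l =
      Ideal.Quotient.mk (RingHom.ker l) := RingHom.ext fun x => by
    apply (RingHom.quotientKerEquivOfSurjective hl).injective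
    simp
  rw [h2] at h1
  exact RingHom.flat_algebraMap_iff.mp h1

variable (M : Type u) [AddCommGroup M] [Module A M] [Module B M] [IsScalarTower A B M]

/-- The action of `B ⊗[A] B` on `N ⊗[A] M`. -/
noncomputable def biAct (N : Type u) [AddCommGroup N] [Module A N] [Module B N] [IsScalarTower A B N] :
    B ⊗[A] B →ₐ[A] Module.End A (N ⊗[A] M) :=
  (Module.endTensorEndAlgHom (R := A) (S := A) (A := A) (M := N) (N := M)).comp
    (Algebra.TensorProduct.map (Algebra.lsmul A A N) (Algebra.lsmul A A M))

variable {M} {N : Type u} [AddCommGroup N] [Module A N] [Module B N] [IsScalarTower A B N]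

@[simp]
theorem biAct_tmul (b c : B) (n : N) (m : M) :
    biAct (A := A) (B := B) M N (b ⊗ₜ c) (n ⊗ₜ m) = (b • n) ⊗ₜ (c • m) := rfl

variable (B M N) in
/-- `N ⊗[A] M → N ⊗[B] M`. -/
noncomputable def toTensor : N ⊗[A] M →ₗ[A] N ⊗[B] M :=
  TensorProduct.lift (LinearMap.mk₂ A (fun n m => n ⊗ₜ[B] m) TensorProduct.add_tmul
    (fun a n m => by rw [← IsScalarTower.algebraMap_smul B a n, ← TensorProduct.smul_tmul', IsScalarTower.algebraMap_smul])
    TensorProduct.tmul_add
    (fun a n m => by rw [← IsScalarTower.algebraMap_smul B a m, TensorProduct.tmul_smul, IsScalarTower.algebraMap_smul]))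

theorem toTensor_tmul (n : N) (m : M) : toTensor B M N (n ⊗ₜ[A] m) = n ⊗ₜ[B] m := rfl

theorem toTensor_surjective : Function.Surjective (toTensor (A := A) B M N) := by
  intro z
  induction z using TensorProduct.induction_on with
  | zero => exact ⟨0, map_zero _⟩
  | tmul n m => exact ⟨n ⊗ₜ m, rfl⟩
  | add x y hx hy =>
    obtain ⟨x', rfl⟩ := hx
    obtain ⟨y', rfl⟩ := hy
    exact ⟨x' + y', map_add _ _ _⟩

theorem toTensor_biAct (c : B ⊗[A] B) (t : N ⊗[A] M) :
    toTensor B M N (biAct M N c t) = Algebra.TensorProduct.lmul' A c • toTensor B M N t := by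
  induction c using TensorProduct.induction_on with
  | zero => simp
  | add x y hx hy => simp [map_add, hx, hy, add_smul]
  | tmul b b' =>
    induction t using TensorProduct.induction_on with
    | zero => simp
    | add x y hx hy => simp only [map_add, hx, hy, smul_add]
    | tmul n m =>
      rw [biAct_tmul, toTensor_tmul, toTensor_tmul, Algebra.TensorProduct.lmul'_apply_tmul,
        TensorProduct.smul_tmul', mul_smul, TensorProduct.tmul_smul, TensorProduct.smul_tmul', smul_comm]

theorem exists_fix_of_toTensor_eq_zero (h : (Algebra.TensorProduct.lmul' A (S := B)).toRingHom.Flat)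
    (t : N ⊗[A] M) (ht : toTensor B M N t = 0) :
    ∃ e : B ⊗[A] B, Algebra.TensorProduct.lmul' A e = 0 ∧ biAct M N e t = t := by
  haveI := pure_ker_lmul' h
  let T : Submodule A (N ⊗[A] M) :=
    { carrier := {t | ∃ e : B ⊗[A] B, Algebra.TensorProduct.lmul' A e = 0 ∧ biAct M N e t = t}
      zero_mem' := ⟨0, map_zero _, by simp⟩
      add_mem' := fun {t₁ t₂} ⟨e₁, h₁, k₁⟩ ⟨e₂, h₂, k₂⟩ => ⟨e₁ + e₂ - e₁ * e₂, by simp [h₁, h₂], by
        have c1 : biAct M N (e₁ + e₂ - e₁ * e₂) t₁ = t₁ := by
          rw [mul_comm e₁, map_sub, map_add, map_mul, LinearMap.sub_apply, LinearMap.add_apply,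
            Module.End.mul_apply, k₁, add_sub_cancel_right]
        have c2 : biAct M N (e₁ + e₂ - e₁ * e₂) t₂ = t₂ := by
          rw [map_sub, map_add, map_mul, LinearMap.sub_apply, LinearMap.add_apply,
            Module.End.mul_apply, k₂, add_sub_cancel_left]
        rw [map_add, c1, c2]⟩
      smul_mem' := fun a t ⟨e, h₁, k₁⟩ => ⟨e, h₁, by rw [map_smul, k₁]⟩ }
  have hgen : ∀ (b : B) (n : N) (m : M), (b • n) ⊗ₜ[A] m - n ⊗ₜ[A] (b • m) ∈ T := by
    intro b n m
    have hI : b ⊗ₜ[A] (1 : B) - (1 : B) ⊗ₜ b ∈ RingHom.ker (Algebra.TensorProduct.lmul' A (S := B)).toRingHom := by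
      simp
    obtain ⟨e, he, hxe⟩ := Ideal.exists_eq_mul_of_pure hI
    refine ⟨e, he, ?_⟩
    have key : biAct M N (b ⊗ₜ[A] (1 : B) - (1 : B) ⊗ₜ b) (n ⊗ₜ m) = (b • n) ⊗ₜ[A] m - n ⊗ₜ[A] (b • m) := by
      simp
    rw [← key, ← Module.End.mul_apply, ← map_mul, mul_comm, ← hxe]
  let q : N ⊗[B] M →+ (N ⊗[A] M) ⧸ T := TensorProduct.liftAddHom
    { toFun := fun n =>
        { toFun := fun m => Submodule.Quotient.mk (n ⊗ₜ[A] m)
          map_zero' := by simp
          map_add' := fun x y => by simp [TensorProduct.tmul_add] }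
      map_zero' := by ext m; simp
      map_add' := fun x y => by ext m; simp [TensorProduct.add_tmul] }
    (fun b n m => (Submodule.Quotient.eq T).2 (hgen b n m))
  have hq : ∀ t, q (toTensor B M N t) = Submodule.Quotient.mk t := by
    intro t
    induction t using TensorProduct.induction_on with
    | zero => simp
    | tmul n m => rw [toTensor_tmul]; simp [q]
    | add x y hx hy => simp [map_add, hx, hy]
  have := hq t
  rw [ht, map_zero, eq_comm, Submodule.Quotient.mk_eq_zero] at this
  exact this

/-- If `B ⊗[A] B → B` is flat, a `B`-module flat over `A` is flat over `B`. -/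
theorem flat_of_flat_lmul' (h : (Algebra.TensorProduct.lmul' A (S := B)).toRingHom.Flat)
    [Module.Flat A M] : Module.Flat B M := by
  rw [Module.Flat.iff_rTensor_preserves_injective_linearMap]
  intro N N' _ _ _ _ φ hφ
  let : Module A N := Module.compHom N (algebraMap A B)
  let : Module A N' := Module.compHom N' (algebraMap A B)
  have : IsScalarTower A B N := IsScalarTower.of_algebraMap_smul fun _ _ => rfl
  have : IsScalarTower A B N' := IsScalarTower.of_algebraMap_smul fun _ _ => rfl
  have hψ : Function.Injective ((φ.restrictScalars A).rTensor M) :=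
    Module.Flat.rTensor_preserves_injective_linearMap _ hφ
  have hnat : ∀ t : N ⊗[A] M, φ.rTensor M (toTensor B M N t) = toTensor B M N' ((φ.restrictScalars A).rTensor M t) := by
    intro t
    induction t using TensorProduct.induction_on with
    | zero => simp
    | tmul n m => rfl
    | add x y hx hy => simp [map_add, hx, hy]
  have hact : ∀ (c : B ⊗[A] B) (t : N ⊗[A] M), (φ.restrictScalars A).rTensor M (biAct M N c t) =
      biAct M N' c ((φ.restrictScalars A).rTensor M t) := by
    intro c t
    induction c using TensorProduct.induction_on with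
    | zero => simp
    | add x y hx hy => simp [map_add, hx, hy]
    | tmul b b' =>
      induction t using TensorProduct.induction_on with
      | zero => simp
      | tmul n m => simp
      | add x y hx hy => simp only [map_add, hx, hy]
  rw [injective_iff_map_eq_zero]
  intro z hz
  obtain ⟨t, rfl⟩ := toTensor_surjective (A := A) z
  rw [hnat] at hz
  obtain ⟨e, he, hfix⟩ := exists_fix_of_toTensor_eq_zero h _ hz
  rw [← hact] at hfix
  rw [← hψ hfix, toTensor_biAct, he, zero_smul]

end GrothLib.Diag6
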